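import Cfsg.Agent.H37.NW.NumR

/-!
# S4816, layer (B): the numerical survivors in characteristic `p` (helper437)
-/

set_option autoImplicit false
set_option exponentiation.threshold 2000

namespace Cfsg.Agent.H437.RIM

open Cfsg.Agent.H37.NW
open Cfsg.Agent.H662.GW (Ineq)

section two

variable {q e m j : ℕ}

theorem two_three' (hj : 1 ≤ j) (hq : 3 ≤ q) (h1 : (3 - 1) * (2 ^ m * (2 ^ j - 1)) ≤ 3 * e)
    (h2 : 3 * q ^ e ≤ 2 ^ (4 * m * j + 2 * j ^ 2 + 3 * j)) : m + j ≤ 6 := by
  by_contra hn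
  rcases Nat.lt_or_ge (m + j) 9 with h8 | h8
  · have hcase : m + j = 7 ∨ m + j = 8 := by omega
    rcases hcase with h | h
    · have hj5 : j ≤ 7 := by omega
      obtain rfl : m = 7 - j := by omega
      interval_cases j
      · exact small 3 43 hq (by norm_num) (by norm_num) h1 (by norm_num) h2 (by norm_num)
      · exact small 3 64 hq (by norm_num) (by norm_num) h1 (by norm_num) h2 (by norm_num)
      · exact small 3 75 hq (by norm_num) (by norm_num) h1 (by norm_num) h2 (by norm_num)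
      · exact small 3 80 hq (by norm_num) (by norm_num) h1 (by norm_num) h2 (by norm_num)
      · exact small 3 83 hq (by norm_num) (by norm_num) h1 (by norm_num) h2 (by norm_num)
      · exact small 3 84 hq (by norm_num) (by norm_num) h1 (by norm_num) h2 (by norm_num)
      · exact small 3 85 hq (by norm_num) (by norm_num) h1 (by norm_num) h2 (by norm_num)
    · have hj5 : j ≤ 8 := by omega
      obtain rfl : m = 8 - j := by omega
      interval_cases j
      · exact small 3 86 hq (by norm_num) (by norm_num) h1 (by norm_num) h2 (by norm_num)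
      · exact small 3 128 hq (by norm_num) (by norm_num) h1 (by norm_num) h2 (by norm_num)
      · exact small 3 150 hq (by norm_num) (by norm_num) h1 (by norm_num) h2 (by norm_num)
      · exact small 3 160 hq (by norm_num) (by norm_num) h1 (by norm_num) h2 (by norm_num)
      · exact small 3 166 hq (by norm_num) (by norm_num) h1 (by norm_num) h2 (by norm_num)
      · exact small 3 168 hq (by norm_num) (by norm_num) h1 (by norm_num) h2 (by norm_num)
      · exact small 3 170 hq (by norm_num) (by norm_num) h1 (by norm_num) h2 (by norm_num)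
      · exact small 3 170 hq (by norm_num) (by norm_num) h1 (by norm_num) h2 (by norm_num)
  · have h3 : q ^ e ≤ 2 ^ (4 * m * j + 2 * j ^ 2 + 3 * j) := le_trans (by omega) h2
    have h4 := two_ge (m := m) (i := 1) hj
    have h5 : 2 ^ (m + j) = 2 * 2 ^ (m + j - 1) := by rw [← pow_succ']; congr 1; omega
    refine big 3 3 1 3 2 9 189 hq h3 (n := m + j) ?_
      (lin 9 189 (E_le m j) h8 (by norm_num) (by norm_num)) h8 (by norm_num) (by norm_num) (by norm_num)
    omega

theorem two_five' (hj : 2 ≤ j) (hev : 2 ∣ j) (hq : 5 ≤ q) (h1 : (5 - 1) * (2 ^ m * (2 ^ j - 1)) ≤ 5 * e)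
    (h2 : 5 * q ^ e ≤ 2 ^ (4 * m * j + 2 * j ^ 2 + 3 * j)) :
    q < 25 ∧ ((m ≤ 2 ∧ j = 2) ∨ (m ≤ 1 ∧ j = 4)) := by
  have h6 : m + j ≤ 5 := by
    by_contra hn
    rcases Nat.lt_or_ge (m + j) 7 with h8 | h8
    · have h : m + j = 6 := by omega
      have hj5 : j = 2 ∨ j = 4 ∨ j = 6 := by omega
      obtain rfl : m = 6 - j := by omega
      rcases hj5 with rfl | rfl | rfl
      · exact small 5 39 hq (by norm_num) (by norm_num) h1 (by norm_num) h2 (by norm_num)
      · exact small 5 48 hq (by norm_num) (by norm_num) h1 (by norm_num) h2 (by norm_num)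
      · exact small 5 51 hq (by norm_num) (by norm_num) h1 (by norm_num) h2 (by norm_num)
    · have h3 : q ^ e ≤ 2 ^ (4 * m * j + 2 * j ^ 2 + 3 * j) := le_trans (by omega) h2
      have h4 := two_ge (m := m) (i := 2) hj
      have h5 : 2 ^ (m + j) = 4 * 2 ^ (m + j - 2) := by
        rw [show (4 : ℕ) = 2 ^ 2 by norm_num, ← pow_add]; congr 1; omega
      refine big 5 5 3 2 1 7 119 hq h3 (n := m + j) ?_
        (lin 7 119 (E_le m j) h8 (by norm_num) (by norm_num)) h8 (by norm_num) (by norm_num) (by norm_num)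
      omega
  have hcase : (m = 0 ∧ j = 2) ∨ (m = 1 ∧ j = 2) ∨ (m = 2 ∧ j = 2) ∨ (m = 3 ∧ j = 2) ∨ (m = 0 ∧ j = 4) ∨
      (m = 1 ∧ j = 4) := by omega
  rcases hcase with ⟨rfl, rfl⟩ | ⟨rfl, rfl⟩ | ⟨rfl, rfl⟩ | ⟨rfl, rfl⟩ | ⟨rfl, rfl⟩ | ⟨rfl, rfl⟩
  · refine ⟨?_, by omega⟩
    by_contra hlt
    exact small 25 3 (by omega) (by norm_num) (by norm_num) h1 (by norm_num) h2 (by norm_num)
  · refine ⟨?_, by omega⟩
    by_contra hlt
    exact small 25 5 (by omega) (by norm_num) (by norm_num) h1 (by norm_num) h2 (by norm_num)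
  · refine ⟨?_, by omega⟩
    by_contra hlt
    exact small 25 10 (by omega) (by norm_num) (by norm_num) h1 (by norm_num) h2 (by norm_num)
  · exact (small 5 20 hq (by norm_num) (by norm_num) h1 (by norm_num) h2 (by norm_num)).elim
  · refine ⟨?_, by omega⟩
    by_contra hlt
    exact small 25 12 (by omega) (by norm_num) (by norm_num) h1 (by norm_num) h2 (by norm_num)
  · refine ⟨?_, by omega⟩
    by_contra hlt
    exact small 25 24 (by omega) (by norm_num) (by norm_num) h1 (by norm_num) h2 (by norm_num)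

theorem two_seven' (hj : 3 ≤ j) (hev : 3 ∣ j) (hq : 7 ≤ q) (h1 : (7 - 1) * (2 ^ m * (2 ^ j - 1)) ≤ 7 * e)
    (h2 : 7 * q ^ e ≤ 2 ^ (4 * m * j + 2 * j ^ 2 + 3 * j)) : q < 49 ∧ m ≤ 1 ∧ j = 3 := by
  have h6 := two_seven hj (by omega) h1 h2
  have hcase : (m = 0 ∧ j = 3) ∨ (m = 1 ∧ j = 3) := by omega
  rcases hcase with ⟨rfl, rfl⟩ | ⟨rfl, rfl⟩
  · refine ⟨?_, by omega⟩
    by_contra hlt
    exact small 49 6 (by omega) (by norm_num) (by norm_num) h1 (by norm_num) h2 (by norm_num)
  · refine ⟨?_, by omega⟩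
    by_contra hlt
    exact small 49 12 (by omega) (by norm_num) (by norm_num) h1 (by norm_num) h2 (by norm_num)

theorem two_eleven' {p : ℕ} (hp : p.Prime) (hp11 : 11 ≤ p) (hd : p ∣ 2 ^ (2 * j) - 1) (hj : 1 ≤ j) (hq : 11 ≤ q)
    (h1 : (p - 1) * (2 ^ m * (2 ^ j - 1)) ≤ p * e)
    (h2 : p * q ^ e ≤ 2 ^ (4 * m * j + 2 * j ^ 2 + 3 * j)) : False := by
  have hj4 : 4 ≤ j := by
    by_contra hj4
    have : p ∣ 3 * 5 * 3 * 3 * 7 := by
      interval_cases j
      · exact hd.trans (by norm_num)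
      · exact hd.trans (by norm_num)
      · exact hd.trans (by norm_num)
    rcases (Nat.Prime.dvd_mul hp).mp this with h | h
    · rcases (Nat.Prime.dvd_mul hp).mp h with h | h
      · rcases (Nat.Prime.dvd_mul hp).mp h with h | h
        · rcases (Nat.Prime.dvd_mul hp).mp h with h | h
          · have := Nat.le_of_dvd (by norm_num) h; omega
          · have := Nat.le_of_dvd (by norm_num) h; omega
        · have := Nat.le_of_dvd (by norm_num) h; omega
      · have := Nat.le_of_dvd (by norm_num) h; omega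
    · have := Nat.le_of_dvd (by norm_num) h; omega
  have hqe : q ^ e ≤ p * q ^ e := Nat.le_mul_of_pos_left _ (by omega)
  have h4 := two_ge (m := m) (i := 4) (show 4 ≤ j by omega)
  have h5 : 2 ^ (m + j) = 16 * 2 ^ (m + j - 4) := by
    rw [show (16 : ℕ) = 2 ^ 4 by norm_num, ← pow_add]; congr 1; omega
  refine big 11 176 150 10 3 4 44 hq (hqe.trans h2) (n := m + j) ?_
    (lin 4 44 (E_le m j) (by omega) (by norm_num) (by norm_num)) (by omega) (by norm_num) (by norm_num)
    (by norm_num)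
  rw [h5]
  generalize 2 ^ (m + j - 4) = T at *
  generalize 2 ^ m * (2 ^ j - 1) = S at *
  have h6 : p * (150 * T) ≤ p * (11 * e) := by
    calc p * (150 * T) = 10 * p * (15 * T) := by ring
      _ ≤ 11 * (p - 1) * (15 * T) := Nat.mul_le_mul_right _ (by omega)
      _ ≤ 11 * (p - 1) * S := Nat.mul_le_mul_left _ (by omega)
      _ = 11 * ((p - 1) * S) := by ring
      _ ≤ 11 * (p * e) := Nat.mul_le_mul_left _ h1
      _ = p * (11 * e) := by ring
  have h7 := Nat.le_of_mul_le_mul_left h6 (by omega)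
  omega

end two

theorem eq_one_of_lt {p f : ℕ} (hp : 2 ≤ p) (hf : 1 ≤ f) (h : p ^ f < p ^ 2) : f = 1 := by
  have := (Nat.pow_lt_pow_iff_right (by omega : 1 < p)).1 h
  omega

/-- The numerical survivors. -/
theorem num_p {p s n j f M : ℕ} (hp : p.Prime) (hs : s.Prime) (hps : p ≠ s) (hp2 : p ≠ 2)
    (hj : 1 ≤ j) (hjn : j ≤ n) (hd : p ∣ s ^ (2 * j) - 1) (hf : 1 ≤ f) (hsq : s ∣ p ^ f - 1)
    (hM : M * (p * (s ^ ((n - j) ^ 2) * ∏ i ∈ Finset.range (n - j), (s ^ (2 * (i + 1)) - 1)))
      ≤ s ^ (n ^ 2) * ∏ i ∈ Finset.range n, (s ^ (2 * (i + 1)) - 1))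
    (hI : Cfsg.Agent.H662.GW.Ineq p s n j (p ^ f) M) :
    s = 2 ∧ ((p = 3 ∧ n ≤ 6) ∨
      (p = 5 ∧ f = 1 ∧ ((n ≤ 4 ∧ j = 2) ∨ (n = 4 ∧ j = 4) ∨ (n = 5 ∧ j = 4))) ∨
      (p = 7 ∧ f = 1 ∧ n ≤ 4 ∧ j = 3)) := by
  obtain ⟨m, rfl⟩ : ∃ m, n = m + j := ⟨n - j, by omega⟩
  rw [Nat.add_sub_cancel] at hM
  have hp1 := hp.two_le
  have hs1 := hs.two_le
  have hpf : p ≤ p ^ f := Nat.le_self_pow (by omega) p
  obtain ⟨e, h1, h2, h3⟩ := base (by omega) hs1 (by omega) hM hI
  have hlt : s < p ^ f := by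
    have : s ≤ p ^ f - 1 := Nat.le_of_dvd (by omega) hsq
    omega
  rcases Nat.lt_or_ge s 5 with hs5 | hs5
  · have : s = 2 ∨ s = 3 := by
      interval_cases s <;> first | omega | (exfalso; revert hs; norm_num)
    rcases this with rfl | rfl
    · refine ⟨rfl, ?_⟩
      rcases Nat.lt_or_ge p 11 with h11 | h11
      · have h357 : p = 3 ∨ p = 5 ∨ p = 7 := by
          interval_cases p <;> first | omega | (exfalso; revert hp; norm_num)
        rcases h357 with rfl | rfl | rfl
        · exact Or.inl ⟨rfl, two_three' hj hpf h1 h2⟩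
        · refine Or.inr (Or.inl ⟨rfl, ?_⟩)
          have hev : 2 ∣ j := by
            by_contra hodd
            obtain ⟨k, rfl⟩ : ∃ k, j = 2 * k + 1 := ⟨j / 2, by omega⟩
            have h4 : 2 ^ (2 * (2 * k + 1)) % 5 = 4 := by
              rw [show 2 * (2 * k + 1) = 4 * k + 2 by ring, pow_add, pow_mul, Nat.mul_mod, Nat.pow_mod]
              norm_num
            have h5 : 1 ≤ 2 ^ (2 * (2 * k + 1)) := Nat.one_le_pow _ _ (by norm_num)
            omega
          obtain ⟨h4, h5⟩ := two_five' (by omega) hev hpf h1 h2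
          exact ⟨eq_one_of_lt (by norm_num) hf h4, by omega⟩
        · refine Or.inr (Or.inr ⟨rfl, ?_⟩)
          have hev : 3 ∣ j := by
            by_contra hodd
            obtain ⟨k, hk⟩ : ∃ k, j = 3 * k + 1 ∨ j = 3 * k + 2 := ⟨j / 3, by omega⟩
            rcases hk with rfl | rfl
            · have h4 : 2 ^ (2 * (3 * k + 1)) % 7 = 4 := by
                rw [show 2 * (3 * k + 1) = 6 * k + 2 by ring, pow_add, pow_mul, Nat.mul_mod, Nat.pow_mod]
                norm_num
              have h5 : 1 ≤ 2 ^ (2 * (3 * k + 1)) := Nat.one_le_pow _ _ (by norm_num)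
              omega
            · have h4 : 2 ^ (2 * (3 * k + 2)) % 7 = 2 := by
                rw [show 2 * (3 * k + 2) = 6 * k + 4 by ring, pow_add, pow_mul, Nat.mul_mod, Nat.pow_mod]
                norm_num
              have h5 : 1 ≤ 2 ^ (2 * (3 * k + 2)) := Nat.one_le_pow _ _ (by norm_num)
              omega
          obtain ⟨h4, h5, h6⟩ := two_seven' (by omega) hev hpf h1 h2
          exact ⟨eq_one_of_lt (by norm_num) hf h4, by omega, h6⟩
      · exact (two_eleven' hp h11 hd hj (by omega) h1 h2).elim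
    · exfalso
      have hp4 : p ≠ 4 := fun h => by rw [h] at hp; revert hp; norm_num
      obtain ⟨rfl, h4, rfl⟩ := s_three hp (by omega) le_rfl hd hj (by omega) h1 h2
      obtain rfl : m = 0 := by omega
      have h5 : 5 ^ 1 < 5 ^ f := by
        refine lt_of_le_of_ne (by omega) fun h => ?_
        rw [← h] at hsq
        revert hsq
        norm_num
      have h6 : 2 ≤ f := (Nat.pow_lt_pow_iff_right (by norm_num : 1 < 5)).1 h5
      have h7 : 5 ^ 2 ≤ 5 ^ f := Nat.pow_le_pow_right (by norm_num) h6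
      exact small 25 7 (by omega) (by norm_num) (by norm_num) h1 (by norm_num) h2 (by norm_num)
  · exfalso
    obtain ⟨-, h4, -, -, h5, -⟩ := s_five hp (by omega) hs hs5 hp le_rfl hd hj rfl hlt hsq h1 h2
    omega

end Cfsg.Agent.H437.RIM
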