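import Cfsg.Agent.H742.OddMultSpor
import Cfsg.Agent.H277.ClsPsu
import Cfsg.Agent.NotCT.Orders
import Cfsg.Agent.H500.SN.UFour
import Cfsg.Agent.S0144
import Cfsg.Agent.S0243
import Cfsg.Agent.S0292
import Cfsg.Agent.S1059
import Cfsg.Agent.S1063
import Cfsg.Agent.S1066

/-!
# S4816, RowThree: the two primes lemma (helper437)

`two_primes`: `E` perfect, `S = E / Z(E)` simple (known), `p` an odd prime: some prime
`r ≠ p` divides `|S|` and not `|Z(E)|`, unless `p = 5`, `S = A₆` and `6 ∣ |Z(E)|`.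
-/

set_option autoImplicit false

namespace Cfsg.Agent.H437.RIM

open Cfsg Subgroup
open Cfsg.Agent.H742.OddMult (OddCase ORow odd_cases_known)
open Cfsg.Agent.NotCT.Orders

universe u v

/-! ### Arithmetic -/

theorem dvd_pow_sub_one {r q k : ℕ} (hr : r.Prime) (hq : ¬ r ∣ q) (hk : (r - 1) ∣ k) : r ∣ q ^ k - 1 := by
  have h1 : q ^ (r - 1) ≡ 1 [MOD r] := by
    have h := Nat.ModEq.pow_totient ((Nat.Prime.coprime_iff_not_dvd hr).2 hq).symm
    rwa [Nat.totient_prime hr] at h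
  obtain ⟨j, rfl⟩ := hk
  have h2 := h1.pow j
  rw [one_pow, ← pow_mul] at h2
  have hq0 : 0 < q := Nat.pos_of_ne_zero (by rintro rfl; exact hq (dvd_zero _))
  exact (Nat.modEq_iff_dvd' (Nat.one_le_pow _ _ hq0)).1 h2.symm

theorem nine_not {q : ℕ} : ¬ 9 ∣ q ^ 2 + q + 1 := by
  intro h
  have h1 : (q ^ 2 + q + 1) % 9 = 0 := Nat.mod_eq_zero_of_dvd h
  have h2 : q % 9 < 9 := Nat.mod_lt _ (by norm_num)
  rw [Nat.add_mod, Nat.add_mod (q ^ 2), Nat.pow_mod] at h1
  interval_cases q % 9 <;> simp at h1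

theorem nine_not' {q : ℕ} (hq : 1 ≤ q) : ¬ 9 ∣ q ^ 2 - q + 1 := by
  obtain ⟨a, rfl⟩ := Nat.exists_eq_add_of_le' hq
  have h : (a + 1) ^ 2 - (a + 1) + 1 = a ^ 2 + a + 1 := by
    have : (a + 1) ^ 2 = a ^ 2 + a + (a + 1) := by ring
    rw [this, Nat.add_sub_cancel]
  rw [h]
  exact nine_not

/-- a number `> 3` not divisible by 9 has a prime divisor `≠ 3` -/
theorem exists_prime_ne_three {n : ℕ} (hn : 3 < n) (h9 : ¬ 9 ∣ n) : ∃ r : ℕ, r.Prime ∧ r ≠ 3 ∧ r ∣ n := by
  by_contra hcon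
  push Not at hcon
  have h1 : ∀ r : ℕ, r.Prime → r ∣ n → r = 3 := fun r hr hd => by
    by_contra h
    exact hcon r hr h hd
  have h2 := Nat.eq_prime_pow_of_unique_prime_dvd (n := n) (p := 3) (by omega) (fun {d} hd hdn => h1 d hd hdn)
  generalize n.primeFactorsList.length = k at h2
  rcases k with _ | _ | k
  · omega
  · omega
  · apply h9
    rw [h2]
    exact ⟨3 ^ k, by ring⟩

theorem exists_dvd_q2 {q : ℕ} (hq : 2 ≤ q) : ∃ r : ℕ, r.Prime ∧ r ≠ 3 ∧ r ≠ 2 ∧ r ∣ q ^ 2 + q + 1 := by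
  obtain ⟨r, hr, h3, hd⟩ := exists_prime_ne_three (n := q ^ 2 + q + 1) (by nlinarith) nine_not
  refine ⟨r, hr, h3, ?_, hd⟩
  rintro rfl
  have h1 : q ^ 2 + q + 1 = q * (q + 1) + 1 := by ring
  rw [h1] at hd
  have h2 : 2 ∣ q * (q + 1) := (Nat.even_mul_succ_self q).two_dvd
  omega

theorem exists_dvd_q2' {q : ℕ} (hq : 3 ≤ q) : ∃ r : ℕ, r.Prime ∧ r ≠ 3 ∧ r ≠ 2 ∧ r ∣ q ^ 2 - q + 1 := by
  obtain ⟨a, rfl⟩ := Nat.exists_eq_add_of_le' (show 1 ≤ q by omega)
  have h : (a + 1) ^ 2 - (a + 1) + 1 = a ^ 2 + a + 1 := by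
    have : (a + 1) ^ 2 = a ^ 2 + a + (a + 1) := by ring
    rw [this, Nat.add_sub_cancel]
  rw [h]
  exact exists_dvd_q2 (by omega)

/-- `r ∣ q² + q + 1`, `r ≠ 3` ⇒ `r ∤ q - 1` -/
theorem not_dvd_sub_one {r q : ℕ} (hr : r.Prime) (h3 : r ≠ 3) (hq : 1 ≤ q) (h : r ∣ q ^ 2 + q + 1) : ¬ r ∣ q - 1 := by
  intro h1
  obtain ⟨a, rfl⟩ := Nat.exists_eq_add_of_le' hq
  rw [Nat.add_sub_cancel] at h1
  have h2 : (a + 1) ^ 2 + (a + 1) + 1 = a * (a + 3) + 3 := by ring
  rw [h2] at h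
  have h4 := (Nat.dvd_add_right (h1.mul_right _)).1 h
  exact h3 ((Nat.prime_dvd_prime_iff_eq hr Nat.prime_three).1 h4)

/-- `r ∣ q² - q + 1`, `r ≠ 3` ⇒ `r ∤ q + 1` -/
theorem not_dvd_add_one {r q : ℕ} (hr : r.Prime) (h3 : r ≠ 3) (hq : 1 ≤ q) (h : r ∣ q ^ 2 - q + 1) : ¬ r ∣ q + 1 := by
  intro h1
  obtain ⟨a, rfl⟩ := Nat.exists_eq_add_of_le' hq
  have h2 : (a + 1) ^ 2 - (a + 1) + 1 = a ^ 2 + a + 1 := by
    have : (a + 1) ^ 2 = a ^ 2 + a + (a + 1) := by ring
    rw [this, Nat.add_sub_cancel]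
  rw [h2] at h
  have h4 : a * (a + 1 + 1) + 3 = (a ^ 2 + a + 1) + (a + 1 + 1) := by ring
  have h5 : r ∣ a * (a + 1 + 1) + 3 := by
    rw [h4]
    exact dvd_add h h1
  have h6 := (Nat.dvd_add_right (h1.mul_left _)).1 h5
  exact h3 ((Nat.prime_dvd_prime_iff_eq hr Nat.prime_three).1 h6)

/-! ### Two primes not dividing `m` -/

/-- two different odd primes divide `N` and do not divide `m` -/
def Two (N m : ℕ) : Prop :=
  ∃ r s : ℕ, r.Prime ∧ s.Prime ∧ r ≠ s ∧ r ≠ 2 ∧ s ≠ 2 ∧ r ∣ N ∧ s ∣ N ∧ ¬ r ∣ m ∧ ¬ s ∣ m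

theorem Two.exists_ne {N m : ℕ} (h : Two N m) (p : ℕ) : ∃ r : ℕ, r.Prime ∧ r ≠ p ∧ r ≠ 2 ∧ r ∣ N ∧ ¬ r ∣ m := by
  obtain ⟨r, s, hr, hs, hrs, hr2, hs2, hrN, hsN, hrm, hsm⟩ := h
  by_cases hp : r = p
  · exact ⟨s, hs, fun h => hrs (hp.trans h.symm), hs2, hsN, hsm⟩
  · exact ⟨r, hr, hp, hr2, hrN, hrm⟩

theorem Two.of_three {N m : ℕ} (hm : m = 3) (r s : ℕ) (hr : r.Prime) (hs : s.Prime) (h5 : 5 ≤ r) (hrs : r < s)
    (hrN : r ∣ N) (hsN : s ∣ N) : Two N m := by
  subst hm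
  have key : ∀ t : ℕ, t.Prime → 5 ≤ t → ¬ t ∣ 3 := fun t _ h h' => by
    have := Nat.le_of_dvd (by norm_num) h'
    omega
  exact ⟨r, s, hr, hs, hrs.ne, by omega, by omega, hrN, hsN, key r hr h5, key s hs (by omega)⟩

/-! ### The linear groups -/

theorem dvd_card_psl {F : Type} [Field F] [Fintype F] {n r : ℕ} (hn : 2 ≤ n) (hr : r.Prime)
    (h1 : ¬ r ∣ Fintype.card F - 1) {i : ℕ} (hi : i < n)
    (hd : r ∣ Fintype.card F ^ n - Fintype.card F ^ i) :
    r ∣ Nat.card (Matrix.ProjectiveSpecialLinearGroup (Fin n) F) := by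
  have h := S0243.result (F := F) rfl n hn
  have h2 : r ∣ ∏ i : Fin n, (Fintype.card F ^ n - Fintype.card F ^ (i : ℕ)) :=
    dvd_trans hd (Finset.dvd_prod_of_mem (fun i : Fin n => Fintype.card F ^ n - Fintype.card F ^ (i : ℕ))
      (Finset.mem_univ (⟨i, hi⟩ : Fin n)))
  rw [← h] at h2
  rcases (hr.dvd_mul).1 h2 with h3 | h3
  · exact absurd (h3.trans (Nat.gcd_dvd_right _ _)) h1
  · exact ((hr.dvd_mul).1 h3).resolve_left h1

theorem two_psl {F : Type} [Field F] [Fintype F] {n m : ℕ} (hn : 3 ≤ n) (hm : m ∣ Nat.gcd n (Fintype.card F - 1)) :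
    Two (Nat.card (Matrix.ProjectiveSpecialLinearGroup (Fin n) F)) m := by
  set q := Fintype.card F with hq
  have hq2 : 2 ≤ q := Fintype.one_lt_card
  have hm1 : m ∣ q - 1 := hm.trans (Nat.gcd_dvd_right _ _)
  obtain ⟨r, hr, hr3, hr2, hrd⟩ := exists_dvd_q2 hq2
  have hrn : ¬ r ∣ q - 1 := not_dvd_sub_one hr hr3 (by omega) hrd
  have hrG : r ∣ Nat.card (Matrix.ProjectiveSpecialLinearGroup (Fin n) F) := by
    refine dvd_card_psl (i := n - 3) (by omega) hr hrn (by omega) ?_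
    rw [← hq]
    have h1 : q ^ n - q ^ (n - 3) = q ^ (n - 3) * (q ^ 3 - 1) := by
      rw [Nat.mul_sub, mul_one, ← pow_add]
      congr 2
      omega
    rw [h1]
    refine Dvd.dvd.mul_left ?_ _
    have h2 : q ^ 3 - 1 = (q - 1) * (q ^ 2 + q + 1) := by
      obtain ⟨a, ha⟩ := Nat.exists_eq_add_of_le' (show 1 ≤ q by omega)
      rw [ha, Nat.add_sub_cancel]
      have : (a + 1) ^ 3 = a * ((a + 1) ^ 2 + (a + 1) + 1) + 1 := by ring
      rw [this, Nat.add_sub_cancel]
    rw [h2]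
    exact hrd.mul_left _
  have hrm : ¬ r ∣ m := fun h => hrn (h.trans hm1)
  by_cases hev : 2 ∣ q
  · -- a prime divisor of `q + 1`
    obtain ⟨s, hs, hsd⟩ := Nat.exists_prime_and_dvd (show q + 1 ≠ 1 by omega)
    have hs2 : s ≠ 2 := by
      rintro rfl
      omega
    have hsn : ¬ s ∣ q - 1 := by
      intro h
      have h1 : q + 1 = (q - 1) + 2 := by omega
      rw [h1] at hsd
      exact hs2 ((Nat.prime_dvd_prime_iff_eq hs Nat.prime_two).1 ((Nat.dvd_add_right h).1 hsd))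
    refine ⟨r, s, hr, hs, ?_, hr2, hs2, hrG, ?_, hrm, fun h => hsn (h.trans hm1)⟩
    · rintro rfl
      have h1 : q ^ 2 + q + 1 = q * (q + 1) + 1 := by ring
      rw [h1] at hrd
      exact hr.one_lt.ne' (Nat.dvd_one.1 ((Nat.dvd_add_right (hsd.mul_left _)).1 hrd))
    · refine dvd_card_psl (i := n - 2) (by omega) hs hsn (by omega) ?_
      rw [← hq]
      have h1 : q ^ n - q ^ (n - 2) = q ^ (n - 2) * (q ^ 2 - 1) := by
        rw [Nat.mul_sub, mul_one, ← pow_add]
        congr 2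
        omega
      rw [h1]
      refine Dvd.dvd.mul_left ?_ _
      have h2 : q ^ 2 - 1 = (q - 1) * (q + 1) := by
        obtain ⟨a, ha⟩ := Nat.exists_eq_add_of_le' (show 1 ≤ q by omega)
        rw [ha, Nat.add_sub_cancel]
        have : (a + 1) ^ 2 = a * (a + 1 + 1) + 1 := by ring
        rw [this, Nat.add_sub_cancel]
      rw [h2]
      exact hsd.mul_left _
  · -- the characteristic
    obtain ⟨s, hs, hsd⟩ := Nat.exists_prime_and_dvd (show q ≠ 1 by omega)
    have hs2 : s ≠ 2 := fun h => hev (h ▸ hsd)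
    have hsn : ¬ s ∣ q - 1 := by
      intro h
      have h1 : q = (q - 1) + 1 := by omega
      rw [h1] at hsd
      exact hs.one_lt.ne' (Nat.dvd_one.1 ((Nat.dvd_add_right h).1 hsd))
    refine ⟨r, s, hr, hs, ?_, hr2, hs2, hrG, ?_, hrm, fun h => hsn (h.trans hm1)⟩
    · rintro rfl
      have h1 : q ^ 2 + q + 1 = q * (q + 1) + 1 := by ring
      rw [h1] at hrd
      exact hr.one_lt.ne' (Nat.dvd_one.1 ((Nat.dvd_add_right (hsd.mul_right _)).1 hrd))
    · refine dvd_card_psl (i := 1) (by omega) hs hsn (by omega) ?_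
      rw [← hq]
      exact (Nat.dvd_sub (hsd.trans (dvd_pow_self q (by omega))) (hsd.trans (dvd_pow_self q (by norm_num))))

/-! ### The unitary groups -/

theorem dvd_card_psu {F : Type} [Field F] [Fintype F] {n q r : ℕ} (hF : Fintype.card F = q ^ 2) (hn : 3 ≤ n)
    (hr : r.Prime) (h1 : ¬ r ∣ Nat.gcd n (q + 1)) (hd : r ∣ q ^ (n * (n - 1) / 2) *
      ∏ i ∈ Finset.range (n - 1), (if Even i then q ^ (i + 2) - 1 else q ^ (i + 2) + 1)) :
    r ∣ Nat.card (PSU n F q) := by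
  rw [← H277.ClsPsu.card_psu hF hn] at hd
  exact ((hr.dvd_mul).1 hd).resolve_left h1

theorem two_psu {F : Type} [Field F] [Fintype F] {n q m : ℕ} (hF : Fintype.card F = q ^ 2) (hn : 3 ≤ n)
    (hm : m ∣ Nat.gcd n (q + 1)) (hm1 : m ≠ 1) (h32 : ¬ (n = 3 ∧ q = 2)) :
    Two (Nat.card (PSU n F q)) m := by
  have hq2 : 2 ≤ q := by
    have h1 : 1 < Fintype.card F := Fintype.one_lt_card
    rw [hF] at h1
    by_contra h
    have : q = 0 ∨ q = 1 := by omega
    rcases this with rfl | rfl <;> norm_num at h1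
  have hmq : m ∣ q + 1 := hm.trans (Nat.gcd_dvd_right _ _)
  rcases Nat.lt_or_ge q 3 with h3 | h3
  · -- `q = 2`: `m = 3`, `n ≥ 6`
    obtain rfl : q = 2 := by omega
    have hm3 : m = 3 := by
      rcases (Nat.dvd_prime Nat.prime_three).1 hmq with h | h
      · exact absurd h hm1
      · exact h
    have hn3 : 3 ∣ n := hm3 ▸ hm.trans (Nat.gcd_dvd_left _ _)
    have hn6 : 6 ≤ n := by
      obtain ⟨k, rfl⟩ := hn3
      have : k ≠ 1 := fun h => h32 ⟨by omega, rfl⟩
      omega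
    have key : ∀ r : ℕ, r.Prime → 5 ≤ r → ∀ i < n - 1, r ∣ (if Even i then 2 ^ (i + 2) - 1 else 2 ^ (i + 2) + 1) →
        r ∣ Nat.card (PSU n F 2) := by
      intro r hr h5 i hi hd
      refine dvd_card_psu hF hn hr ?_ (Dvd.dvd.mul_left (hd.trans (Finset.dvd_prod_of_mem
        (fun i => if Even i then 2 ^ (i + 2) - 1 else 2 ^ (i + 2) + 1) (Finset.mem_range.2 hi))) _)
      intro h
      have := Nat.le_of_dvd (by norm_num) (h.trans (Nat.gcd_dvd_right _ _))
      omega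
    refine Two.of_three hm3 5 11 (by norm_num) (by norm_num) le_rfl (by norm_num) ?_ ?_
    · exact key 5 (by norm_num) le_rfl 2 (by omega) (by decide)
    · exact key 11 (by norm_num) (by norm_num) 3 (by omega) (by decide)
  · obtain ⟨r, hr, hr3, hr2, hrd⟩ := exists_dvd_q2' h3
    have hrn : ¬ r ∣ q + 1 := not_dvd_add_one hr hr3 (by omega) hrd
    have hrG : r ∣ Nat.card (PSU n F q) := by
      refine dvd_card_psu hF hn hr (fun h => hrn (h.trans (Nat.gcd_dvd_right _ _))) (Dvd.dvd.mul_left ?_ _)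
      refine Dvd.dvd.trans ?_ (Finset.dvd_prod_of_mem
        (fun i => if Even i then q ^ (i + 2) - 1 else q ^ (i + 2) + 1) (Finset.mem_range.2 (show 1 < n - 1 by omega)))
      simp only [Nat.not_even_one, if_false]
      have h2 : q ^ (1 + 2) + 1 = (q + 1) * (q ^ 2 - q + 1) := by
        obtain ⟨a, rfl⟩ := Nat.exists_eq_add_of_le' (show 1 ≤ q by omega)
        have h : (a + 1) ^ 2 - (a + 1) + 1 = a ^ 2 + a + 1 := by
          have : (a + 1) ^ 2 = a ^ 2 + a + (a + 1) := by ring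
          rw [this, Nat.add_sub_cancel]
        rw [h]
        ring
      rw [h2]
      exact hrd.mul_left _
    have hrm : ¬ r ∣ m := fun h => hrn (h.trans hmq)
    have hcop : ∀ s : ℕ, s.Prime → s ∣ q ^ 2 - q + 1 → ¬ s ∣ q * (q - 1) := by
      intro s hs h1 h2
      have h3 : q ^ 2 - q = q * (q - 1) := by rw [Nat.mul_sub, mul_one, sq]
      rw [h3] at h1
      exact hs.one_lt.ne' (Nat.dvd_one.1 ((Nat.dvd_add_right h2).1 h1))
    by_cases hev : 2 ∣ q
    · obtain ⟨s, hs, hsd⟩ := Nat.exists_prime_and_dvd (show q - 1 ≠ 1 by omega)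
      have hs2 : s ≠ 2 := by
        rintro rfl
        omega
      have hsn : ¬ s ∣ q + 1 := by
        intro h
        have h1 : q + 1 = (q - 1) + 2 := by omega
        rw [h1] at h
        exact hs2 ((Nat.prime_dvd_prime_iff_eq hs Nat.prime_two).1 ((Nat.dvd_add_right hsd).1 h))
      refine ⟨r, s, hr, hs, ?_, hr2, hs2, hrG, ?_, hrm, fun h => hsn (h.trans hmq)⟩
      · rintro rfl
        exact hcop _ hr hrd (hsd.mul_left _)
      · refine dvd_card_psu hF hn hs (fun h => hsn (h.trans (Nat.gcd_dvd_right _ _))) (Dvd.dvd.mul_left ?_ _)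
        refine Dvd.dvd.trans ?_ (Finset.dvd_prod_of_mem
          (fun i => if Even i then q ^ (i + 2) - 1 else q ^ (i + 2) + 1) (Finset.mem_range.2 (show 0 < n - 1 by omega)))
        simp only [Even.zero, if_true, zero_add]
        have h2 : q ^ 2 - 1 = (q - 1) * (q + 1) := by
          obtain ⟨a, ha⟩ := Nat.exists_eq_add_of_le' (show 1 ≤ q by omega)
          rw [ha, Nat.add_sub_cancel]
          have : (a + 1) ^ 2 = a * (a + 1 + 1) + 1 := by ring
          rw [this, Nat.add_sub_cancel]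
        rw [h2]
        exact hsd.mul_right _
    · obtain ⟨s, hs, hsd⟩ := Nat.exists_prime_and_dvd (show q ≠ 1 by omega)
      have hs2 : s ≠ 2 := fun h => hev (h ▸ hsd)
      have hsn : ¬ s ∣ q + 1 := fun h => hs.one_lt.ne' (Nat.dvd_one.1 ((Nat.dvd_add_right hsd).1 h))
      refine ⟨r, s, hr, hs, ?_, hr2, hs2, hrG, ?_, hrm, fun h => hsn (h.trans hmq)⟩
      · rintro rfl
        exact hcop _ hr hrd (hsd.mul_right _)
      · refine dvd_card_psu hF hn hs (fun h => hsn (h.trans (Nat.gcd_dvd_right _ _))) (Dvd.dvd.mul_right ?_ _)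
        refine hsd.trans (dvd_pow_self q ?_)
        have h1 : 3 * 2 ≤ n * (n - 1) := Nat.mul_le_mul hn (by omega)
        omega

/-! ### All cases -/

theorem two_of_case {S : Type v} [Group S] {m : ℕ} (h : OddCase S m) (hm1 : m ≠ 1) :
    Two (Nat.card S) m ∨ (Nonempty (S ≃* alternatingGroup (Fin 6)) ∧ m = 3) := by
  have sp : ∀ {N : ℕ}, Nat.card S = N → m = 3 → ∀ r s : ℕ, r.Prime → s.Prime → 5 ≤ r → r < s → r ∣ N → s ∣ N →
      Two (Nat.card S) m := fun hN hm r s hr hs h5 hrs h1 h2 =>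
    Two.of_three hm r s hr hs h5 hrs (hN ▸ h1) (hN ▸ h2)
  rcases h with ⟨e, hm⟩ | ⟨⟨e⟩, hm⟩ | ⟨F, _, _, n, hn, ⟨e⟩, hm⟩ | ⟨F, _, _, n, q, hF, hn, h32, ⟨e⟩, hm⟩ |
    ⟨F, _, _, hF, ⟨e⟩, hm⟩ | ⟨F, _, _, hF, ⟨e⟩, hm⟩ | ⟨F, _, _, hF, ⟨e⟩, hm⟩ | ⟨F, _, _, h3, ⟨e⟩, hm⟩ |
    ⟨K, _, _, q, hq, hK, h3, ⟨e⟩, hm⟩ | ⟨h, hm⟩ | ⟨h, hm⟩ | ⟨h, hm⟩ | ⟨h, hm⟩ | ⟨h, hm⟩ | ⟨h, hm⟩ | ⟨h, hm⟩
  · exact Or.inr ⟨e, hm⟩
  · refine Or.inl (sp (N := 2520) ?_ hm 5 7 (by norm_num) (by norm_num) (by norm_num) (by norm_num) (by norm_num)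
      (by norm_num))
    rw [Nat.card_congr e.toEquiv, nat_card_alternatingGroup, Nat.card_fin]
    rfl
  · refine Or.inl ?_
    rw [Nat.card_congr e.toEquiv]
    exact two_psl hn hm
  · refine Or.inl ?_
    rw [Nat.card_congr e.toEquiv]
    exact two_psu hF hn hm hm1 h32
  · refine Or.inl ?_
    have hc : Nat.card S = 3265920 := by
      rw [Nat.card_congr e.toEquiv]
      exact H500.SN.card_psu_four hF
    have h9 : ∀ t : ℕ, t.Prime → 5 ≤ t → ¬ t ∣ m := fun t ht h5 h => by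
      have h1 : t ∣ 3 ^ 2 := h.trans hm
      have := Nat.le_of_dvd (by norm_num) (ht.dvd_of_dvd_pow h1)
      omega
    exact ⟨5, 7, by norm_num, by norm_num, by norm_num, by norm_num, by norm_num, by rw [hc]; norm_num,
      by rw [hc]; norm_num, h9 5 (by norm_num) le_rfl, h9 7 (by norm_num) (by norm_num)⟩
  · refine Or.inl (sp (N := 4585351680) ?_ hm 5 7 (by norm_num) (by norm_num) (by norm_num) (by norm_num)
      (by norm_num) (by norm_num))
    rw [Nat.card_congr e.toEquiv]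
    have h := S0292.result hF (by decide) 3 le_rfl
    norm_num [Finset.prod_range_succ] at h
    omega
  · refine Or.inl (sp (N := 4245696) ?_ hm 7 13 (by norm_num) (by norm_num) (by norm_num) (by norm_num)
      (by norm_num) (by norm_num))
    rw [Nat.card_congr e.toEquiv, S1059.result hF]
    norm_num
  · -- `E₆(q)`
    refine Or.inl ?_
    have hc := S1063.result (F := F) rfl
    set q := Fintype.card F with hq
    have key : ∀ r : ℕ, r.Prime → 5 ≤ r → (r - 1 ∣ 8 ∨ r - 1 ∣ 6) → r ∣ Nat.card S := by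
      intro r hr h5 h
      rw [Nat.card_congr e.toEquiv]
      have h1 : r ∣ Nat.gcd 3 (q - 1) * Nat.card ↥(Cfsg.Lie.chevE6.group F) := by
        rw [hc]
        by_cases hrq : r ∣ q
        · have h2 : r ∣ q ^ 36 := hrq.trans (dvd_pow_self q (by norm_num))
          exact (((((h2.mul_right _).mul_right _).mul_right _).mul_right _).mul_right _).mul_right _
        · rcases h with h | h
          · exact (((dvd_pow_sub_one hr hrq h).mul_left _).mul_right _).mul_right _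
          · exact ((((dvd_pow_sub_one hr hrq h).mul_left _).mul_right _).mul_right _).mul_right _
      refine ((hr.dvd_mul).1 h1).resolve_left fun h2 => ?_
      have := Nat.le_of_dvd (by norm_num) (h2.trans (Nat.gcd_dvd_left _ _))
      omega
    exact Two.of_three hm 5 7 (by norm_num) (by norm_num) le_rfl (by norm_num)
      (key 5 (by norm_num) le_rfl (Or.inl (by norm_num))) (key 7 (by norm_num) (by norm_num) (Or.inr (by norm_num)))
  · -- `²E₆(q)`
    refine Or.inl ?_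
    have hc := S1066.result hq hK
    have key : ∀ r : ℕ, r.Prime → 5 ≤ r → (r - 1 ∣ 8 ∨ r - 1 ∣ 6) → r ∣ Nat.card S := by
      intro r hr h5 h
      rw [Nat.card_congr e.toEquiv]
      have h1 : r ∣ Nat.gcd 3 (q + 1) * Nat.card ↥(Cfsg.Lie.twistedE6 K q) := by
        rw [hc]
        by_cases hrq : r ∣ q
        · have h2 : r ∣ q ^ 36 := hrq.trans (dvd_pow_self q (by norm_num))
          exact (((((h2.mul_right _).mul_right _).mul_right _).mul_right _).mul_right _).mul_right _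
        · rcases h with h | h
          · exact (((dvd_pow_sub_one hr hrq h).mul_left _).mul_right _).mul_right _
          · exact ((((dvd_pow_sub_one hr hrq h).mul_left _).mul_right _).mul_right _).mul_right _
      refine ((hr.dvd_mul).1 h1).resolve_left fun h2 => ?_
      have := Nat.le_of_dvd (by norm_num) (h2.trans (Nat.gcd_dvd_left _ _))
      omega
    exact Two.of_three hm 5 7 (by norm_num) (by norm_num) le_rfl (by norm_num)
      (key 5 (by norm_num) le_rfl (Or.inl (by norm_num))) (key 7 (by norm_num) (by norm_num) (Or.inr (by norm_num)))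
  · exact Or.inl (sp (m22 h) hm 5 7 (by norm_num) (by norm_num) (by norm_num) (by norm_num) (by norm_num) (by norm_num))
  · exact Or.inl (sp (mcl h) hm 5 7 (by norm_num) (by norm_num) (by norm_num) (by norm_num) (by norm_num) (by norm_num))
  · exact Or.inl (sp (suz h) hm 5 7 (by norm_num) (by norm_num) (by norm_num) (by norm_num) (by norm_num) (by norm_num))
  · exact Or.inl (sp (fi22 h) hm 5 7 (by norm_num) (by norm_num) (by norm_num) (by norm_num) (by norm_num) (by norm_num))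
  · exact Or.inl (sp (fi24 h) hm 5 7 (by norm_num) (by norm_num) (by norm_num) (by norm_num) (by norm_num) (by norm_num))
  · exact Or.inl (sp (on h) hm 5 7 (by norm_num) (by norm_num) (by norm_num) (by norm_num) (by norm_num) (by norm_num))
  · exact Or.inl (sp (j3 h) hm 5 17 (by norm_num) (by norm_num) (by norm_num) (by norm_num) (by norm_num) (by norm_num))

/-! ### The lemma -/

section main

variable {E : Type u} [Group E] [Finite E]

/-- a third prime, for a non-abelian simple group -/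
theorem exists_third {S : Type u} [Group S] [Finite S] [IsSimpleGroup S] (hna : ¬ IsMulCommutative S) {p q : ℕ}
    (hp : p.Prime) (hq : q.Prime) : ∃ r : ℕ, r.Prime ∧ r ≠ p ∧ r ≠ q ∧ r ∣ Nat.card S := by
  by_contra hcon
  push Not at hcon
  have key : ∀ r : ℕ, r.Prime → r ∣ Nat.card S → r = p ∨ r = q := by
    intro r hr hd
    by_contra h
    push Not at h
    exact hcon r hr h.1 h.2 hd
  have hpos : Nat.card S ≠ 0 := Nat.card_pos.ne'
  have hcard : ∃ a b : ℕ, Nat.card S = p ^ a * q ^ b := by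
    obtain ⟨a, m, hm, h1⟩ := Nat.exists_eq_pow_mul_and_not_dvd hpos p hp.ne_one
    have hm0 : m ≠ 0 := by rintro rfl; exact hm (dvd_zero _)
    have h2 := Nat.eq_prime_pow_of_unique_prime_dvd (n := m) (p := q) hm0 (fun {d} hd hdm => by
      rcases key d hd (by rw [h1]; exact hdm.mul_left _) with rfl | rfl
      · exact absurd hdm hm
      · rfl)
    exact ⟨a, _, by rw [h1, ← h2]⟩
  obtain ⟨a, b, hab⟩ := hcard
  have hsol := S0144.result p q a b hp hq hab
  exact hna ⟨⟨IsSimpleGroup.comm_iff_isSolvable.2 hsol⟩⟩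

/-- the odd part of the centre -/
theorem exists_odd_case (hE : commutator E = ⊤) [IsSimpleGroup (E ⧸ center E)]
    (hna : ¬ IsMulCommutative (E ⧸ center E)) (hK : IsKnownSimple' (E ⧸ center E))
    (h : ∃ r : ℕ, r.Prime ∧ r ≠ 2 ∧ r ∣ Nat.card (center E)) :
    ∃ m : ℕ, OddCase (E ⧸ center E) m ∧ m ≠ 1 ∧ ∀ r : ℕ, r.Prime → r ≠ 2 → r ∣ Nat.card (center E) → r ∣ m := by
  have h2 : Fact (Nat.Prime 2) := ⟨Nat.prime_two⟩
  obtain ⟨P⟩ : Nonempty (Sylow 2 (center E)) := inferInstance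
  set D : Subgroup E := (P : Subgroup (center E)).map (center E).subtype with hD
  have hDC : D ≤ center E := by
    rintro _ ⟨x, -, rfl⟩
    exact x.2
  have hDn : D.Normal := ⟨fun n hn g => by
    rw [mem_center_iff.1 (hDC hn) g, mul_assoc, mul_inv_cancel, mul_one]
    exact hn⟩
  have hDcard : Nat.card D = Nat.card P := Subgroup.card_map_of_injective (center E).subtype_injective
  let σ : E ⧸ D →* E ⧸ center E := QuotientGroup.map D (center E) (MonoidHom.id E) hDC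
  have hσs : Function.Surjective σ := by
    intro y
    obtain ⟨x, rfl⟩ := QuotientGroup.mk_surjective y
    exact ⟨QuotientGroup.mk x, rfl⟩
  have hker : σ.ker = (center E).map (QuotientGroup.mk' D) := by
    ext y
    obtain ⟨x, rfl⟩ := QuotientGroup.mk_surjective y
    rw [MonoidHom.mem_ker]
    constructor
    · intro hx
      have h1 : (QuotientGroup.mk x : E ⧸ center E) = 1 := hx
      rw [QuotientGroup.eq_one_iff] at h1
      exact ⟨x, h1, rfl⟩
    · rintro ⟨z, hz, hzx⟩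
      rw [← hzx]
      exact (QuotientGroup.eq_one_iff z).2 hz
  have hcen : σ.ker ≤ center (E ⧸ D) := by
    rw [hker]
    rintro _ ⟨z, hz, rfl⟩
    rw [mem_center_iff]
    intro y
    obtain ⟨x, rfl⟩ := QuotientGroup.mk_surjective y
    have h1 := mem_center_iff.1 hz x
    exact congrArg (QuotientGroup.mk' D) h1
  have hperf : commutator (E ⧸ D) = ⊤ :=
    KFacts.MulDef.commutator_top_of_surj (QuotientGroup.mk' D) (QuotientGroup.mk'_surjective D) hE
  have hstem : IsStemExtension σ := ⟨hσs, hcen, by rw [hperf]; exact le_top⟩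
  have hkc : Nat.card σ.ker * Nat.card D = Nat.card (center E) := by
    let f : center E →* E ⧸ D := (QuotientGroup.mk' D).comp (center E).subtype
    have h1 : f.range = σ.ker := by
      rw [hker, MonoidHom.range_comp, Subgroup.range_subtype]
    have h3 : f.ker = D.subgroupOf (center E) := by
      ext x
      rw [MonoidHom.mem_ker, mem_subgroupOf]
      exact QuotientGroup.eq_one_iff (x : E)
    have h4 := Subgroup.card_mul_index f.ker
    rw [Subgroup.index_ker, h1, h3, Nat.card_congr (Subgroup.subgroupOfEquivOfLe hDC).toEquiv] at h4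
    rw [mul_comm]
    exact h4
  have hodd : ¬ 2 ∣ Nat.card σ.ker := by
    have h1 := Subgroup.card_mul_index (P : Subgroup (center E))
    rw [← hkc, hDcard, mul_comm] at h1
    rw [← Nat.eq_of_mul_eq_mul_right Nat.card_pos h1]
    exact P.not_dvd_index
  have hr : ∀ r : ℕ, r.Prime → r ≠ 2 → r ∣ Nat.card (center E) → r ∣ Nat.card σ.ker := by
    intro r hr hr2 hd
    rw [← hkc] at hd
    refine ((hr.dvd_mul).1 hd).resolve_right fun h3 => ?_
    rw [hDcard, P.card_eq_multiplicity] at h3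
    exact hr2 ((Nat.prime_dvd_prime_iff_eq hr Nat.prime_two).1 (hr.dvd_of_dvd_pow h3))
  have h1 : Nat.card σ.ker ≠ 1 := by
    obtain ⟨r, h4, h5, h6⟩ := h
    intro h7
    have := hr r h4 h5 h6
    rw [h7] at this
    exact h4.one_lt.ne' (Nat.dvd_one.1 this)
  exact ⟨Nat.card σ.ker, odd_cases_known hna hK (E ⧸ D) σ hstem (Nat.not_even_iff_odd.1 (fun h8 => hodd h8.two_dvd)) h1,
    h1, hr⟩

/-- **The two primes lemma.** -/
theorem two_primes {p : ℕ} (hp : p.Prime) (hE : commutator E = ⊤) [IsSimpleGroup (E ⧸ center E)]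
    (hna : ¬ IsMulCommutative (E ⧸ center E)) (hK : IsKnownSimple' (E ⧸ center E)) (hp2 : p ≠ 2) :
    (∃ r : ℕ, r.Prime ∧ r ≠ p ∧ r ∣ Nat.card (E ⧸ center E) ∧ ¬ r ∣ Nat.card (center E)) ∨
      (Nonempty (E ⧸ center E ≃* alternatingGroup (Fin 6)) ∧ p = 5 ∧ 6 ∣ Nat.card (center E)) := by
  by_cases h : ∃ r : ℕ, r.Prime ∧ r ≠ 2 ∧ r ∣ Nat.card (center E)
  · obtain ⟨m, hm, hm1, hmr⟩ := exists_odd_case hE hna hK h
    rcases two_of_case hm hm1 with h1 | ⟨h1, rfl⟩
    · obtain ⟨r, hr, hrp, hr2, hrS, hrm⟩ := h1.exists_ne p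
      exact Or.inl ⟨r, hr, hrp, hrS, fun h2 => hrm (hmr r hr hr2 h2)⟩
    · obtain ⟨e⟩ := h1
      have hcard : Nat.card (E ⧸ center E) = 360 := by
        rw [Nat.card_congr e.toEquiv, nat_card_alternatingGroup, Nat.card_fin]
        rfl
      by_cases h2 : 2 ∣ Nat.card (center E)
      · by_cases h5 : p = 5
        · refine Or.inr ⟨⟨e⟩, h5, ?_⟩
          obtain ⟨r, hr, hr2, hrd⟩ := h
          have h3 := (Nat.prime_dvd_prime_iff_eq hr Nat.prime_three).1 (hmr r hr hr2 hrd)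
          rw [h3] at hrd
          exact (Nat.Coprime.mul_dvd_of_dvd_of_dvd (by norm_num) h2 hrd : 2 * 3 ∣ _)
        · refine Or.inl ⟨5, by norm_num, fun h => h5 h.symm, by rw [hcard]; norm_num, fun h => ?_⟩
          have := hmr 5 (by norm_num) (by norm_num) h
          norm_num at this
      · exact Or.inl ⟨2, Nat.prime_two, fun h => hp2 h.symm, by rw [hcard]; norm_num, h2⟩
  · push Not at h
    obtain ⟨r, hr, hr1, hr2, hrS⟩ := exists_third (S := E ⧸ center E) hna hp Nat.prime_two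
    exact Or.inl ⟨r, hr, hr1, hrS, h r hr hr2⟩

end main

end Cfsg.Agent.H437.RIM
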